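/-
Coset enumeration data, found by a computer search; checked by `decide +kernel`.
-/
import Cfsg.Agent.Lib.Spor.TC.Check

namespace CfsgLib.Spor.Hall54.CG

open CfsgLib.Spor.TC

def edgeTbl : Tbl :=
  .bin (.bin (.tip 0x100001b00000f0001a10000e000191000180000f20000e0001800000d0001700000c000161000150000d20000b0001510000b0001400000a00013200009000120000080001110001000009200007000101000070000f0000060000e2000050000d10000c000082000050000c0000040000b20000a000061000040000a0000030000910000300008000002000072000020000600000100005200001000041000000000320000000002100000000010) (.tip 0x35000272000350002d00002500035100034000262000340002910002400034000033000260000330002710002300033200032000250000320002a10002200032200031000290000310002c1000210003120003000028200030000221)) (.bin (.tip 0x210003000002d0002f20002c0002e20002e0002b00002f0002b1000200002f00001f0002e10001e0002d10001d0002c00001c0002b20002a0001e00001b0002a20001a000292000280001b10001a000280000190002700001800026100017000252000240001d1000160002420002300017100016000230000150002200001400021100020000192000130002010001f000142000130001f0000120001e2000110001d20001c000121000110001c0) (.none))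

def nodeTbl : Tbl :=
  .bin (.tip 0x1300001220001120001100001000000f10000e10000e00000d00000c10000b10000b00000a2000090000081000071000070000062000051000050000042000040000031000030000022000020000012000011000002000001000000000000) (.tip 0x2510002400002320002220002120002100002000001f10001e10001d00001c20001b20001a20001a0000190000181000172000162000160000150000141000131)

def rowTbl : Tbl :=
  .bin (.tip 0x1f0001e0001d0001c0001b0001a000190001800017000160001500014000130001200011000100000f0000e0000d0000c0000b0000a00009000080000700006000050000400003000020000100000) (.tip 0x3500034000330003200031000300002f0002e0002d0002c0002b0002a00029000280002700026000250002400023000220002100020)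

def rels : List (List ℕ) := [[0, 1, 0, 1, 0, 1], [1, 2, 1, 2, 1, 2], [0, 2, 0, 2, 0, 2], [0, 1, 2, 1, 0, 1, 2, 1, 0, 1, 2, 1]]

def subs : List (List ℕ) := []

noncomputable def cert : Cert :=
  ⟨3, rels, subs, edgeTbl.get 44, nodeTbl.get 24, rowTbl.get 20⟩

end CfsgLib.Spor.Hall54.CG
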